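import Cfsg.Agent.Lib.Helper11.Fi24e0.D0
import Cfsg.Agent.Lib.Helper11.Fi24e0.D1
import Cfsg.Agent.Lib.Helper11.Fi24e0.D2
import Cfsg.Agent.Lib.Helper11.Fi24e0.D3
import Cfsg.Agent.Lib.Helper11.Fi24e0.D4
import Cfsg.Agent.Lib.Helper11.Fi24e0.D5
import Cfsg.Agent.Lib.Helper11.Words

set_option autoImplicit false
set_option maxRecDepth 100000

namespace Cfsg.Agent.Lib.Helper11.Fi24e0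

noncomputable def fc1_0 (i : ℕ) : ℕ := (Bool.rec (Bool.rec (Bool.rec (Bool.rec (fc0_0 i) (fc0_1 i) (Nat.ble 16 i)) (Bool.rec (fc0_2 i) (fc0_3 i) (Nat.ble 48 i)) (Nat.ble 32 i)) (Bool.rec (Bool.rec (fc0_4 i) (fc0_5 i) (Nat.ble 80 i)) (Bool.rec (fc0_6 i) (fc0_7 i) (Nat.ble 112 i)) (Nat.ble 96 i)) (Nat.ble 64 i)) (Bool.rec (Bool.rec (Bool.rec (fc0_8 i) (fc0_9 i) (Nat.ble 144 i)) (Bool.rec (fc0_10 i) (fc0_11 i) (Nat.ble 176 i)) (Nat.ble 160 i)) (Bool.rec (Bool.rec (fc0_12 i) (fc0_13 i) (Nat.ble 208 i)) (Bool.rec (fc0_14 i) (fc0_15 i) (Nat.ble 240 i)) (Nat.ble 224 i)) (Nat.ble 192 i)) (Nat.ble 128 i))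
noncomputable def fc1_1 (i : ℕ) : ℕ := (Bool.rec (Bool.rec (Bool.rec (Bool.rec (fc0_16 i) (fc0_17 i) (Nat.ble 272 i)) (Bool.rec (fc0_18 i) (fc0_19 i) (Nat.ble 304 i)) (Nat.ble 288 i)) (Bool.rec (Bool.rec (fc0_20 i) (fc0_21 i) (Nat.ble 336 i)) (Bool.rec (fc0_22 i) (fc0_23 i) (Nat.ble 368 i)) (Nat.ble 352 i)) (Nat.ble 320 i)) (Bool.rec (Bool.rec (Bool.rec (fc0_24 i) (fc0_25 i) (Nat.ble 400 i)) (Bool.rec (fc0_26 i) (fc0_27 i) (Nat.ble 432 i)) (Nat.ble 416 i)) (Bool.rec (Bool.rec (fc0_28 i) (fc0_29 i) (Nat.ble 464 i)) (Bool.rec (fc0_30 i) (fc0_31 i) (Nat.ble 496 i)) (Nat.ble 480 i)) (Nat.ble 448 i)) (Nat.ble 384 i))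
noncomputable def fc1_2 (i : ℕ) : ℕ := (Bool.rec (Bool.rec (Bool.rec (Bool.rec (fc0_32 i) (fc0_33 i) (Nat.ble 528 i)) (Bool.rec (fc0_34 i) (fc0_35 i) (Nat.ble 560 i)) (Nat.ble 544 i)) (Bool.rec (Bool.rec (fc0_36 i) (fc0_37 i) (Nat.ble 592 i)) (Bool.rec (fc0_38 i) (fc0_39 i) (Nat.ble 624 i)) (Nat.ble 608 i)) (Nat.ble 576 i)) (Bool.rec (Bool.rec (Bool.rec (fc0_40 i) (fc0_41 i) (Nat.ble 656 i)) (Bool.rec (fc0_42 i) (fc0_43 i) (Nat.ble 688 i)) (Nat.ble 672 i)) (Bool.rec (Bool.rec (fc0_44 i) (fc0_45 i) (Nat.ble 720 i)) (Bool.rec (fc0_46 i) (fc0_47 i) (Nat.ble 752 i)) (Nat.ble 736 i)) (Nat.ble 704 i)) (Nat.ble 640 i))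
noncomputable def fc1_3 (i : ℕ) : ℕ := (Bool.rec (Bool.rec (Bool.rec (Bool.rec (fc0_48 i) (fc0_49 i) (Nat.ble 784 i)) (Bool.rec (fc0_50 i) (fc0_51 i) (Nat.ble 816 i)) (Nat.ble 800 i)) (Bool.rec (Bool.rec (fc0_52 i) (fc0_53 i) (Nat.ble 848 i)) (Bool.rec (fc0_54 i) (fc0_55 i) (Nat.ble 880 i)) (Nat.ble 864 i)) (Nat.ble 832 i)) (Bool.rec (Bool.rec (Bool.rec (fc0_56 i) (fc0_57 i) (Nat.ble 912 i)) (Bool.rec (fc0_58 i) (fc0_59 i) (Nat.ble 944 i)) (Nat.ble 928 i)) (Bool.rec (Bool.rec (fc0_60 i) (fc0_61 i) (Nat.ble 976 i)) (Bool.rec (fc0_62 i) (fc0_63 i) (Nat.ble 1008 i)) (Nat.ble 992 i)) (Nat.ble 960 i)) (Nat.ble 896 i))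
noncomputable def fc1_4 (i : ℕ) : ℕ := (Bool.rec (Bool.rec (Bool.rec (Bool.rec (fc0_64 i) (fc0_65 i) (Nat.ble 1040 i)) (Bool.rec (fc0_66 i) (fc0_67 i) (Nat.ble 1072 i)) (Nat.ble 1056 i)) (Bool.rec (Bool.rec (fc0_68 i) (fc0_69 i) (Nat.ble 1104 i)) (Bool.rec (fc0_70 i) (fc0_71 i) (Nat.ble 1136 i)) (Nat.ble 1120 i)) (Nat.ble 1088 i)) (Bool.rec (Bool.rec (Bool.rec (fc0_72 i) (fc0_73 i) (Nat.ble 1168 i)) (Bool.rec (fc0_74 i) (fc0_75 i) (Nat.ble 1200 i)) (Nat.ble 1184 i)) (Bool.rec (Bool.rec (fc0_76 i) (fc0_77 i) (Nat.ble 1232 i)) (Bool.rec (fc0_78 i) (fc0_79 i) (Nat.ble 1264 i)) (Nat.ble 1248 i)) (Nat.ble 1216 i)) (Nat.ble 1152 i))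
noncomputable def fc1_5 (i : ℕ) : ℕ := (Bool.rec (Bool.rec (Bool.rec (Bool.rec (fc0_80 i) (fc0_81 i) (Nat.ble 1296 i)) (Bool.rec (fc0_82 i) (fc0_83 i) (Nat.ble 1328 i)) (Nat.ble 1312 i)) (Bool.rec (Bool.rec (fc0_84 i) (fc0_85 i) (Nat.ble 1360 i)) (Bool.rec (fc0_86 i) (fc0_87 i) (Nat.ble 1392 i)) (Nat.ble 1376 i)) (Nat.ble 1344 i)) (Bool.rec (Bool.rec (Bool.rec (fc0_88 i) (fc0_89 i) (Nat.ble 1424 i)) (Bool.rec (fc0_90 i) (fc0_91 i) (Nat.ble 1456 i)) (Nat.ble 1440 i)) (Bool.rec (Bool.rec (fc0_92 i) (fc0_93 i) (Nat.ble 1488 i)) (Bool.rec (fc0_94 i) (fc0_95 i) (Nat.ble 1520 i)) (Nat.ble 1504 i)) (Nat.ble 1472 i)) (Nat.ble 1408 i))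
noncomputable def fc1_6 (i : ℕ) : ℕ := (Bool.rec (Bool.rec (Bool.rec (Bool.rec (fc0_96 i) (fc0_97 i) (Nat.ble 1552 i)) (Bool.rec (fc0_98 i) (fc0_99 i) (Nat.ble 1584 i)) (Nat.ble 1568 i)) (Bool.rec (Bool.rec (fc0_100 i) (fc0_101 i) (Nat.ble 1616 i)) (Bool.rec (fc0_102 i) (fc0_103 i) (Nat.ble 1648 i)) (Nat.ble 1632 i)) (Nat.ble 1600 i)) (Bool.rec (Bool.rec (Bool.rec (fc0_104 i) (fc0_105 i) (Nat.ble 1680 i)) (Bool.rec (fc0_106 i) (fc0_107 i) (Nat.ble 1712 i)) (Nat.ble 1696 i)) (Bool.rec (Bool.rec (fc0_108 i) (fc0_109 i) (Nat.ble 1744 i)) (Bool.rec (fc0_110 i) (fc0_111 i) (Nat.ble 1776 i)) (Nat.ble 1760 i)) (Nat.ble 1728 i)) (Nat.ble 1664 i))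
noncomputable def fc1_7 (i : ℕ) : ℕ := (Bool.rec (Bool.rec (fc0_112 i) (Bool.rec (fc0_113 i) (fc0_114 i) (Nat.ble 1824 i)) (Nat.ble 1808 i)) (Bool.rec (fc0_115 i) (Bool.rec (fc0_116 i) (fc0_117 i) (Nat.ble 1872 i)) (Nat.ble 1856 i)) (Nat.ble 1840 i))
noncomputable def fc2_0 (i : ℕ) : ℕ := (Bool.rec (Bool.rec (Bool.rec (fc1_0 i) (fc1_1 i) (Nat.ble 256 i)) (Bool.rec (fc1_2 i) (fc1_3 i) (Nat.ble 768 i)) (Nat.ble 512 i)) (Bool.rec (Bool.rec (fc1_4 i) (fc1_5 i) (Nat.ble 1280 i)) (Bool.rec (fc1_6 i) (fc1_7 i) (Nat.ble 1792 i)) (Nat.ble 1536 i)) (Nat.ble 1024 i))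
noncomputable def fc (i : ℕ) : ℕ := fc2_0 i
noncomputable def sc1_0 (i : ℕ) : ℕ := (Bool.rec (Bool.rec (Bool.rec (Bool.rec (sc0_0 i) (sc0_1 i) (Nat.ble 16 i)) (Bool.rec (sc0_2 i) (sc0_3 i) (Nat.ble 48 i)) (Nat.ble 32 i)) (Bool.rec (Bool.rec (sc0_4 i) (sc0_5 i) (Nat.ble 80 i)) (Bool.rec (sc0_6 i) (sc0_7 i) (Nat.ble 112 i)) (Nat.ble 96 i)) (Nat.ble 64 i)) (Bool.rec (Bool.rec (Bool.rec (sc0_8 i) (sc0_9 i) (Nat.ble 144 i)) (Bool.rec (sc0_10 i) (sc0_11 i) (Nat.ble 176 i)) (Nat.ble 160 i)) (Bool.rec (Bool.rec (sc0_12 i) (sc0_13 i) (Nat.ble 208 i)) (Bool.rec (sc0_14 i) (sc0_15 i) (Nat.ble 240 i)) (Nat.ble 224 i)) (Nat.ble 192 i)) (Nat.ble 128 i))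
noncomputable def sc1_1 (i : ℕ) : ℕ := (Bool.rec (Bool.rec (Bool.rec (Bool.rec (sc0_16 i) (sc0_17 i) (Nat.ble 272 i)) (Bool.rec (sc0_18 i) (sc0_19 i) (Nat.ble 304 i)) (Nat.ble 288 i)) (Bool.rec (Bool.rec (sc0_20 i) (sc0_21 i) (Nat.ble 336 i)) (Bool.rec (sc0_22 i) (sc0_23 i) (Nat.ble 368 i)) (Nat.ble 352 i)) (Nat.ble 320 i)) (Bool.rec (Bool.rec (Bool.rec (sc0_24 i) (sc0_25 i) (Nat.ble 400 i)) (Bool.rec (sc0_26 i) (sc0_27 i) (Nat.ble 432 i)) (Nat.ble 416 i)) (Bool.rec (Bool.rec (sc0_28 i) (sc0_29 i) (Nat.ble 464 i)) (Bool.rec (sc0_30 i) (sc0_31 i) (Nat.ble 496 i)) (Nat.ble 480 i)) (Nat.ble 448 i)) (Nat.ble 384 i))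
noncomputable def sc1_2 (i : ℕ) : ℕ := (Bool.rec (Bool.rec (Bool.rec (Bool.rec (sc0_32 i) (sc0_33 i) (Nat.ble 528 i)) (Bool.rec (sc0_34 i) (sc0_35 i) (Nat.ble 560 i)) (Nat.ble 544 i)) (Bool.rec (Bool.rec (sc0_36 i) (sc0_37 i) (Nat.ble 592 i)) (Bool.rec (sc0_38 i) (sc0_39 i) (Nat.ble 624 i)) (Nat.ble 608 i)) (Nat.ble 576 i)) (Bool.rec (Bool.rec (Bool.rec (sc0_40 i) (sc0_41 i) (Nat.ble 656 i)) (Bool.rec (sc0_42 i) (sc0_43 i) (Nat.ble 688 i)) (Nat.ble 672 i)) (Bool.rec (Bool.rec (sc0_44 i) (sc0_45 i) (Nat.ble 720 i)) (Bool.rec (sc0_46 i) (sc0_47 i) (Nat.ble 752 i)) (Nat.ble 736 i)) (Nat.ble 704 i)) (Nat.ble 640 i))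
noncomputable def sc1_3 (i : ℕ) : ℕ := (Bool.rec (Bool.rec (Bool.rec (Bool.rec (sc0_48 i) (sc0_49 i) (Nat.ble 784 i)) (Bool.rec (sc0_50 i) (sc0_51 i) (Nat.ble 816 i)) (Nat.ble 800 i)) (Bool.rec (Bool.rec (sc0_52 i) (sc0_53 i) (Nat.ble 848 i)) (Bool.rec (sc0_54 i) (sc0_55 i) (Nat.ble 880 i)) (Nat.ble 864 i)) (Nat.ble 832 i)) (Bool.rec (Bool.rec (Bool.rec (sc0_56 i) (sc0_57 i) (Nat.ble 912 i)) (Bool.rec (sc0_58 i) (sc0_59 i) (Nat.ble 944 i)) (Nat.ble 928 i)) (Bool.rec (Bool.rec (sc0_60 i) (sc0_61 i) (Nat.ble 976 i)) (Bool.rec (sc0_62 i) (sc0_63 i) (Nat.ble 1008 i)) (Nat.ble 992 i)) (Nat.ble 960 i)) (Nat.ble 896 i))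
noncomputable def sc1_4 (i : ℕ) : ℕ := (Bool.rec (Bool.rec (Bool.rec (Bool.rec (sc0_64 i) (sc0_65 i) (Nat.ble 1040 i)) (Bool.rec (sc0_66 i) (sc0_67 i) (Nat.ble 1072 i)) (Nat.ble 1056 i)) (Bool.rec (Bool.rec (sc0_68 i) (sc0_69 i) (Nat.ble 1104 i)) (Bool.rec (sc0_70 i) (sc0_71 i) (Nat.ble 1136 i)) (Nat.ble 1120 i)) (Nat.ble 1088 i)) (Bool.rec (Bool.rec (Bool.rec (sc0_72 i) (sc0_73 i) (Nat.ble 1168 i)) (Bool.rec (sc0_74 i) (sc0_75 i) (Nat.ble 1200 i)) (Nat.ble 1184 i)) (Bool.rec (Bool.rec (sc0_76 i) (sc0_77 i) (Nat.ble 1232 i)) (Bool.rec (sc0_78 i) (sc0_79 i) (Nat.ble 1264 i)) (Nat.ble 1248 i)) (Nat.ble 1216 i)) (Nat.ble 1152 i))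
noncomputable def sc1_5 (i : ℕ) : ℕ := (Bool.rec (Bool.rec (Bool.rec (Bool.rec (sc0_80 i) (sc0_81 i) (Nat.ble 1296 i)) (Bool.rec (sc0_82 i) (sc0_83 i) (Nat.ble 1328 i)) (Nat.ble 1312 i)) (Bool.rec (Bool.rec (sc0_84 i) (sc0_85 i) (Nat.ble 1360 i)) (Bool.rec (sc0_86 i) (sc0_87 i) (Nat.ble 1392 i)) (Nat.ble 1376 i)) (Nat.ble 1344 i)) (Bool.rec (Bool.rec (Bool.rec (sc0_88 i) (sc0_89 i) (Nat.ble 1424 i)) (Bool.rec (sc0_90 i) (sc0_91 i) (Nat.ble 1456 i)) (Nat.ble 1440 i)) (Bool.rec (Bool.rec (sc0_92 i) (sc0_93 i) (Nat.ble 1488 i)) (Bool.rec (sc0_94 i) (sc0_95 i) (Nat.ble 1520 i)) (Nat.ble 1504 i)) (Nat.ble 1472 i)) (Nat.ble 1408 i))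
noncomputable def sc1_6 (i : ℕ) : ℕ := (Bool.rec (Bool.rec (Bool.rec (Bool.rec (sc0_96 i) (sc0_97 i) (Nat.ble 1552 i)) (Bool.rec (sc0_98 i) (sc0_99 i) (Nat.ble 1584 i)) (Nat.ble 1568 i)) (Bool.rec (Bool.rec (sc0_100 i) (sc0_101 i) (Nat.ble 1616 i)) (Bool.rec (sc0_102 i) (sc0_103 i) (Nat.ble 1648 i)) (Nat.ble 1632 i)) (Nat.ble 1600 i)) (Bool.rec (Bool.rec (Bool.rec (sc0_104 i) (sc0_105 i) (Nat.ble 1680 i)) (Bool.rec (sc0_106 i) (sc0_107 i) (Nat.ble 1712 i)) (Nat.ble 1696 i)) (Bool.rec (Bool.rec (sc0_108 i) (sc0_109 i) (Nat.ble 1744 i)) (Bool.rec (sc0_110 i) (sc0_111 i) (Nat.ble 1776 i)) (Nat.ble 1760 i)) (Nat.ble 1728 i)) (Nat.ble 1664 i))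
noncomputable def sc1_7 (i : ℕ) : ℕ := (Bool.rec (Bool.rec (sc0_112 i) (Bool.rec (sc0_113 i) (sc0_114 i) (Nat.ble 1824 i)) (Nat.ble 1808 i)) (Bool.rec (sc0_115 i) (Bool.rec (sc0_116 i) (sc0_117 i) (Nat.ble 1872 i)) (Nat.ble 1856 i)) (Nat.ble 1840 i))
noncomputable def sc2_0 (i : ℕ) : ℕ := (Bool.rec (Bool.rec (Bool.rec (sc1_0 i) (sc1_1 i) (Nat.ble 256 i)) (Bool.rec (sc1_2 i) (sc1_3 i) (Nat.ble 768 i)) (Nat.ble 512 i)) (Bool.rec (Bool.rec (sc1_4 i) (sc1_5 i) (Nat.ble 1280 i)) (Bool.rec (sc1_6 i) (sc1_7 i) (Nat.ble 1792 i)) (Nat.ble 1536 i)) (Nat.ble 1024 i))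
noncomputable def sc (i : ℕ) : ℕ := sc2_0 i
noncomputable def nc1_0 (i : ℕ) : ℕ := (Bool.rec (Bool.rec (nc0_0 i) (nc0_1 i) (Nat.ble 16 i)) (Bool.rec (nc0_2 i) (nc0_3 i) (Nat.ble 48 i)) (Nat.ble 32 i))
noncomputable def nc (i : ℕ) : ℕ := nc1_0 i
noncomputable def cc1_0 (i : ℕ) : ℕ := (Bool.rec (Bool.rec (Bool.rec (Bool.rec (cc0_0 i) (cc0_1 i) (Nat.ble 16 i)) (Bool.rec (cc0_2 i) (cc0_3 i) (Nat.ble 48 i)) (Nat.ble 32 i)) (Bool.rec (Bool.rec (cc0_4 i) (cc0_5 i) (Nat.ble 80 i)) (Bool.rec (cc0_6 i) (cc0_7 i) (Nat.ble 112 i)) (Nat.ble 96 i)) (Nat.ble 64 i)) (Bool.rec (Bool.rec (Bool.rec (cc0_8 i) (cc0_9 i) (Nat.ble 144 i)) (Bool.rec (cc0_10 i) (cc0_11 i) (Nat.ble 176 i)) (Nat.ble 160 i)) (Bool.rec (Bool.rec (cc0_12 i) (cc0_13 i) (Nat.ble 208 i)) (Bool.rec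 (cc0_14 i) (cc0_15 i) (Nat.ble 240 i)) (Nat.ble 224 i)) (Nat.ble 192 i)) (Nat.ble 128 i))
noncomputable def cc1_1 (i : ℕ) : ℕ := (Bool.rec (Bool.rec (Bool.rec (Bool.rec (cc0_16 i) (cc0_17 i) (Nat.ble 272 i)) (Bool.rec (cc0_18 i) (cc0_19 i) (Nat.ble 304 i)) (Nat.ble 288 i)) (Bool.rec (Bool.rec (cc0_20 i) (cc0_21 i) (Nat.ble 336 i)) (Bool.rec (cc0_22 i) (cc0_23 i) (Nat.ble 368 i)) (Nat.ble 352 i)) (Nat.ble 320 i)) (Bool.rec (Bool.rec (Bool.rec (cc0_24 i) (cc0_25 i) (Nat.ble 400 i)) (Bool.rec (cc0_26 i) (cc0_27 i) (Nat.ble 432 i)) (Nat.ble 416 i)) (Bool.rec (Bool.rec (cc0_28 i) (cc0_29 i) (Nat.ble 464 i)) (Bool.rec (cc0_30 i) (cc0_31 i) (Nat.ble 496 i)) (Nat.ble 480 i)) (Nat.ble 448 i)) (Nat.ble 384 i))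
noncomputable def cc1_2 (i : ℕ) : ℕ := (Bool.rec (Bool.rec (Bool.rec (Bool.rec (cc0_32 i) (cc0_33 i) (Nat.ble 528 i)) (Bool.rec (cc0_34 i) (cc0_35 i) (Nat.ble 560 i)) (Nat.ble 544 i)) (Bool.rec (Bool.rec (cc0_36 i) (cc0_37 i) (Nat.ble 592 i)) (Bool.rec (cc0_38 i) (cc0_39 i) (Nat.ble 624 i)) (Nat.ble 608 i)) (Nat.ble 576 i)) (Bool.rec (Bool.rec (Bool.rec (cc0_40 i) (cc0_41 i) (Nat.ble 656 i)) (Bool.rec (cc0_42 i) (cc0_43 i) (Nat.ble 688 i)) (Nat.ble 672 i)) (Bool.rec (Bool.rec (cc0_44 i) (cc0_45 i) (Nat.ble 720 i)) (Bool.rec (cc0_46 i) (cc0_47 i) (Nat.ble 752 i)) (Nat.ble 736 i)) (Nat.ble 704 i)) (Nat.ble 640 i))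
noncomputable def cc1_3 (i : ℕ) : ℕ := (Bool.rec (Bool.rec (Bool.rec (cc0_48 i) (Bool.rec (cc0_49 i) (cc0_50 i) (Nat.ble 800 i)) (Nat.ble 784 i)) (Bool.rec (Bool.rec (cc0_51 i) (cc0_52 i) (Nat.ble 832 i)) (Bool.rec (cc0_53 i) (cc0_54 i) (Nat.ble 864 i)) (Nat.ble 848 i)) (Nat.ble 816 i)) (Bool.rec (Bool.rec (cc0_55 i) (Bool.rec (cc0_56 i) (cc0_57 i) (Nat.ble 912 i)) (Nat.ble 896 i)) (Bool.rec (Bool.rec (cc0_58 i) (cc0_59 i) (Nat.ble 944 i)) (Bool.rec (cc0_60 i) (cc0_61 i) (Nat.ble 976 i)) (Nat.ble 960 i)) (Nat.ble 928 i)) (Nat.ble 880 i))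
noncomputable def cc2_0 (i : ℕ) : ℕ := (Bool.rec (Bool.rec (cc1_0 i) (cc1_1 i) (Nat.ble 256 i)) (Bool.rec (cc1_2 i) (cc1_3 i) (Nat.ble 768 i)) (Nat.ble 512 i))
noncomputable def cc (i : ℕ) : ℕ := cc2_0 i

noncomputable def INV : ℕ := 407901468851537952
def isH (l : ℕ) : Bool := decide (l ∈ [2, 3, 4, 5, 6, 7, 8, 10, 11, 1])
def gens : List ℕ := [1, 2, 3, 4, 5, 6, 7, 8, 9, 10, 11]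
def rt : RT := (.node 28 (.node 12 (.node 6 (.node 3 (.node 2 (.node 1 (.leaf 21 0 [1, 10, 1, 10]) (.leaf 22 0 [1, 11, 1, 11])) (.leaf 16 0 [1, 5, 1, 5])) (.node 5 (.node 4 (.leaf 17 0 [1, 6, 1, 6]) (.leaf 76 0 [6, 10, 6, 10])) (.leaf 87 0 [7, 10, 7, 10]))) (.node 9 (.node 8 (.node 7 (.leaf 98 0 [8, 10, 8, 10]) (.leaf 66 0 [5, 11, 5, 11])) (.leaf 54 0 [4, 10, 4, 10])) (.node 11 (.node 10 (.leaf 109 0 [9, 10, 9, 10]) (.leaf 88 0 [7, 11, 7, 11])) (.leaf 77 0 [6, 11, 6, 11])))) (.node 19 (.node 16 (.node 14 (.node 13 (.leaf 43 0 [3, 10, 3, 10]) (.leaf 32 0 [2, 10, 2, 10])) (.node 15 (.leaf 55 0 [4, 11, 4, 11]) (.leaf 99 0 [8, 11, 8, 11]))) (.node 18 (.node 17 (.leaf 110 0 [9, 11, 9, 11]) (.leaf 44 0 [3, 11, 3, 11])) (.leaf 33 0 [2, 11, 2, 11])))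 (.node 24 (.node 22 (.node 21 (.node 20 (.leaf 18 0 [1, 7, 1, 7]) (.leaf 63 1 [8, 5, 8, 5])) (.leaf 10 0 [10, 10])) (.node 23 (.leaf 64 1 [9, 5, 9, 5]) (.leaf 121 1 [11, 10, 11, 10, 11, 10]))) (.node 26 (.node 25 (.leaf 38 0 [3, 5, 3, 5]) (.leaf 27 0 [2, 5, 2, 5])) (.node 27 (.leaf 76 1 [10, 6, 10, 6]) (.leaf 65 1 [10, 5, 10, 5, 10, 5])))))) (.node 55 (.node 40 (.node 34 (.node 31 (.node 30 (.node 29 (.leaf 75 1 [9, 6, 9, 6]) (.leaf 50 0 [4, 6, 4, 6])) (.leaf 28 0 [2, 6, 2, 6])) (.node 33 (.node 32 (.leaf 62 1 [7, 5, 7, 5]) (.leaf 39 0 [3, 6, 3, 6])) (.leaf 11 0 [11, 11]))) (.node 37 (.node 36 (.node 35 (.leaf 74 1 [8, 6, 8, 6]) (.leaf 15 0 [1, 4, 1, 4])) (.leaf 66 1 [11, 5, 11, 5])) (.node 39 (.node 38 (.leaf 77 1 [11, 6, 11, 6]) (.leaf 5 0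 [5, 5])) (.leaf 61 0 [5, 6, 5, 6, 5, 6])))) (.node 47 (.node 44 (.node 42 (.node 41 (.leaf 19 0 [1, 8, 1, 8]) (.leaf 62 0 [5, 7, 5, 7])) (.node 43 (.leaf 51 0 [4, 7, 4, 7]) (.leaf 65 0 [5, 10, 5, 10, 5, 10]))) (.node 46 (.node 45 (.leaf 6 0 [6, 6]) (.leaf 29 0 [2, 7, 2, 7])) (.leaf 40 0 [3, 7, 3, 7]))) (.node 51 (.node 49 (.node 48 (.leaf 121 0 [10, 11, 10, 11, 10, 11]) (.leaf 86 1 [9, 7, 9, 7])) (.node 50 (.leaf 61 1 [6, 5, 6, 5, 6, 5]) (.leaf 14 0 [1, 3, 1, 3]))) (.node 53 (.node 52 (.leaf 73 0 [6, 7, 6, 7, 6, 7]) (.leaf 49 1 [5, 4, 5, 4, 5, 4])) (.node 54 (.leaf 88 1 [11, 7, 11, 7]) (.leaf 2 0 [2, 2])))))) (.node 75 (.node 65 (.node 60 (.node 58 (.node 57 (.node 56 (.leaf 7 0 [7, 7]) (.leaf 4 0 [4, 4])) (.leaf 52 1 [8, 4, 8, 4])) (.node 59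 (.leaf 8 0 [8, 8]) (.leaf 26 0 [2, 4, 2, 4]))) (.node 63 (.node 62 (.node 61 (.leaf 53 1 [9, 4, 9, 4]) (.leaf 20 0 [1, 9, 1, 9])) (.leaf 9 0 [9, 9])) (.node 64 (.leaf 87 1 [10, 7, 10, 7]) (.leaf 73 1 [7, 6, 7, 6, 7, 6])))) (.node 70 (.node 68 (.node 67 (.node 66 (.leaf 74 0 [6, 8, 6, 8]) (.leaf 63 0 [5, 8, 5, 8])) (.leaf 54 1 [10, 4, 10, 4])) (.node 69 (.leaf 49 0 [4, 5, 4, 5, 4, 5]) (.leaf 52 0 [4, 8, 4, 8]))) (.node 73 (.node 72 (.node 71 (.leaf 41 0 [3, 8, 3, 8]) (.leaf 51 1 [7, 4, 7, 4])) (.leaf 85 0 [7, 8, 7, 8, 7, 8])) (.node 74 (.leaf 30 0 [2, 8, 2, 8]) (.leaf 3 0 [3, 3]))))) (.node 89 (.node 82 (.node 79 (.node 77 (.node 76 (.leaf 13 0 [1, 2, 1, 2]) (.leaf 99 1 [11, 8, 11, 8])) (.node 78 (.leaf 55 1 [11, 4, 11, 4]) (.leaf 97 0 [8, 9,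 8, 9, 8, 9]))) (.node 81 (.node 80 (.leaf 86 0 [7, 9, 7, 9]) (.leaf 38 1 [5, 3, 5, 3])) (.leaf 37 1 [4, 3, 4, 3, 4, 3]))) (.node 86 (.node 84 (.node 83 (.leaf 75 0 [6, 9, 6, 9]) (.leaf 41 1 [8, 3, 8, 3])) (.node 85 (.leaf 42 1 [9, 3, 9, 3]) (.leaf 64 0 [5, 9, 5, 9]))) (.node 88 (.node 87 (.leaf 53 0 [4, 9, 4, 9]) (.leaf 43 1 [10, 3, 10, 3])) (.leaf 42 0 [3, 9, 3, 9])))) (.node 98 (.node 94 (.node 92 (.node 91 (.node 90 (.leaf 40 1 [7, 3, 7, 3]) (.leaf 31 0 [2, 9, 2, 9])) (.leaf 50 1 [6, 4, 6, 4])) (.node 93 (.leaf 110 1 [11, 9, 11, 9]) (.leaf 98 1 [10, 8, 10, 8]))) (.node 96 (.node 95 (.leaf 25 1 [3, 2, 3, 2, 3, 2]) (.leaf 32 1 [10, 2, 10, 2])) (.node 97 (.leaf 30 1 [8, 2, 8, 2]) (.leaf 31 1 [9, 2, 9, 2])))) (.node 104 (.node 101 (.node 100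 (.node 99 (.leaf 26 1 [4, 2, 4, 2]) (.leaf 27 1 [5, 2, 5, 2])) (.leaf 44 1 [11, 3, 11, 3])) (.node 103 (.node 102 (.leaf 85 1 [8, 7, 8, 7, 8, 7]) (.leaf 29 1 [7, 2, 7, 2])) (.leaf 39 1 [6, 3, 6, 3]))) (.node 107 (.node 106 (.node 105 (.leaf 33 1 [11, 2, 11, 2]) (.leaf 109 1 [10, 9, 10, 9])) (.leaf 37 0 [3, 4, 3, 4, 3, 4])) (.node 109 (.node 108 (.leaf 0 0 []) (.leaf 28 1 [6, 2, 6, 2])) (.node 111 (.node 110 (.leaf 97 1 [9, 8, 9, 8, 9, 8]) (.leaf 25 0 [2, 3, 2, 3, 2, 3])) (.node 117 (.node 114 (.node 113 (.node 112 (.leaf 133 5 [4, 3, 2, 10, 7, 6, 5, 4, 3, 2, 10, 7, 6, 5, 4, 3, 2, 10, 7, 6, 5, 4, 3, 2, 10, 7, 6, 5, 4, 3, 2, 10, 7, 6, 5, 4, 3, 2, 10, 7, 6, 5, 4, 3, 2, 10, 7, 6, 5, 4, 3, 2, 10, 7, 6, 5, 4, 3, 2, 1, 10, 7, 6, 5]) (.leaf 133 4 [5,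 4, 3, 2, 10, 7, 6, 5, 4, 3, 2, 10, 7, 6, 5, 4, 3, 2, 10, 7, 6, 5, 4, 3, 2, 10, 7, 6, 5, 4, 3, 2, 10, 7, 6, 5, 4, 3, 2, 10, 7, 6, 5, 4, 3, 2, 10, 7, 6, 5, 4, 3, 2, 10, 7, 6, 5, 4, 3, 2, 1, 10, 7, 6])) (.leaf 133 1 [10, 7, 6, 5, 4, 3, 2, 10, 7, 6, 5, 4, 3, 2, 10, 7, 6, 5, 4, 3, 2, 10, 7, 6, 5, 4, 3, 2, 10, 7, 6, 5, 4, 3, 2, 10, 7, 6, 5, 4, 3, 2, 10, 7, 6, 5, 4, 3, 2, 10, 7, 6, 5, 4, 3, 2, 10, 7, 6, 5, 4, 3, 2, 1])) (.node 116 (.node 115 (.leaf 134 6 [5, 10, 11, 5, 4, 3, 5, 6, 7, 5, 10, 11, 5, 4, 3, 5, 6, 7, 5, 10, 11, 5, 4, 3, 5, 6, 7, 5, 10, 11, 5, 4, 3, 5, 6, 7, 5, 10, 11, 5, 4, 3, 5, 6, 7, 5, 10, 11, 5, 4, 3, 5, 6, 7, 5, 10, 11, 5, 4, 3, 5, 6, 7, 5, 10, 11, 5, 4, 3, 5, 6, 7, 5, 10, 11, 5, 4, 3, 5, 6, 7, 5, 10, 11, 5, 4, 3, 5, 6, 7]) (.leaf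 133 2 [7, 6, 5, 4, 3, 2, 10, 7, 6, 5, 4, 3, 2, 10, 7, 6, 5, 4, 3, 2, 10, 7, 6, 5, 4, 3, 2, 10, 7, 6, 5, 4, 3, 2, 10, 7, 6, 5, 4, 3, 2, 10, 7, 6, 5, 4, 3, 2, 10, 7, 6, 5, 4, 3, 2, 10, 7, 6, 5, 4, 3, 2, 1, 10])) (.leaf 133 3 [6, 5, 4, 3, 2, 10, 7, 6, 5, 4, 3, 2, 10, 7, 6, 5, 4, 3, 2, 10, 7, 6, 5, 4, 3, 2, 10, 7, 6, 5, 4, 3, 2, 10, 7, 6, 5, 4, 3, 2, 10, 7, 6, 5, 4, 3, 2, 10, 7, 6, 5, 4, 3, 2, 10, 7, 6, 5, 4, 3, 2, 1, 10, 7]))) (.node 123 (.node 120 (.node 119 (.node 118 (.leaf 134 5 [7, 5, 10, 11, 5, 4, 3, 5, 6, 7, 5, 10, 11, 5, 4, 3, 5, 6, 7, 5, 10, 11, 5, 4, 3, 5, 6, 7, 5, 10, 11, 5, 4, 3, 5, 6, 7, 5, 10, 11, 5, 4, 3, 5, 6, 7, 5, 10, 11, 5, 4, 3, 5, 6, 7, 5, 10, 11, 5, 4, 3, 5, 6, 7, 5, 10, 11, 5, 4, 3, 5, 6, 7, 5, 10, 11, 5, 4, 3, 5, 6, 7, 5,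 10, 11, 5, 4, 3, 5, 6]) (.leaf 134 2 [3, 5, 6, 7, 5, 10, 11, 5, 4, 3, 5, 6, 7, 5, 10, 11, 5, 4, 3, 5, 6, 7, 5, 10, 11, 5, 4, 3, 5, 6, 7, 5, 10, 11, 5, 4, 3, 5, 6, 7, 5, 10, 11, 5, 4, 3, 5, 6, 7, 5, 10, 11, 5, 4, 3, 5, 6, 7, 5, 10, 11, 5, 4, 3, 5, 6, 7, 5, 10, 11, 5, 4, 3, 5, 6, 7, 5, 10, 11, 5, 4, 3, 5, 6, 7, 5, 10, 11, 5, 4])) (.leaf 134 4 [6, 7, 5, 10, 11, 5, 4, 3, 5, 6, 7, 5, 10, 11, 5, 4, 3, 5, 6, 7, 5, 10, 11, 5, 4, 3, 5, 6, 7, 5, 10, 11, 5, 4, 3, 5, 6, 7, 5, 10, 11, 5, 4, 3, 5, 6, 7, 5, 10, 11, 5, 4, 3, 5, 6, 7, 5, 10, 11, 5, 4, 3, 5, 6, 7, 5, 10, 11, 5, 4, 3, 5, 6, 7, 5, 10, 11, 5, 4, 3, 5, 6, 7, 5, 10, 11, 5, 4, 3, 5])) (.node 122 (.node 121 (.leaf 134 8 [11, 5, 4, 3, 5, 6, 7, 5, 10, 11, 5, 4, 3, 5, 6, 7, 5, 10, 11, 5, 4, 3, 5, 6, 7,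 5, 10, 11, 5, 4, 3, 5, 6, 7, 5, 10, 11, 5, 4, 3, 5, 6, 7, 5, 10, 11, 5, 4, 3, 5, 6, 7, 5, 10, 11, 5, 4, 3, 5, 6, 7, 5, 10, 11, 5, 4, 3, 5, 6, 7, 5, 10, 11, 5, 4, 3, 5, 6, 7, 5, 10, 11, 5, 4, 3, 5, 6, 7, 5, 10]) (.leaf 134 0 [5, 4, 3, 5, 6, 7, 5, 10, 11, 5, 4, 3, 5, 6, 7, 5, 10, 11, 5, 4, 3, 5, 6, 7, 5, 10, 11, 5, 4, 3, 5, 6, 7, 5, 10, 11, 5, 4, 3, 5, 6, 7, 5, 10, 11, 5, 4, 3, 5, 6, 7, 5, 10, 11, 5, 4, 3, 5, 6, 7, 5, 10, 11, 5, 4, 3, 5, 6, 7, 5, 10, 11, 5, 4, 3, 5, 6, 7, 5, 10, 11, 5, 4, 3, 5, 6, 7, 5, 10, 11])) (.leaf 133 6 [3, 2, 10, 7, 6, 5, 4, 3, 2, 10, 7, 6, 5, 4, 3, 2, 10, 7, 6, 5, 4, 3, 2, 10, 7, 6, 5, 4, 3, 2, 10, 7, 6, 5, 4, 3, 2, 10, 7, 6, 5, 4, 3, 2, 10, 7, 6, 5, 4, 3, 2, 10, 7, 6, 5, 4, 3, 2, 1, 10, 7, 6, 5, 4]))) (.node 128 (.node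 126 (.node 125 (.node 124 (.leaf 133 8 [10, 7, 6, 5, 4, 3, 2, 10, 7, 6, 5, 4, 3, 2, 10, 7, 6, 5, 4, 3, 2, 10, 7, 6, 5, 4, 3, 2, 10, 7, 6, 5, 4, 3, 2, 10, 7, 6, 5, 4, 3, 2, 10, 7, 6, 5, 4, 3, 2, 10, 7, 6, 5, 4, 3, 2, 1, 10, 7, 6, 5, 4, 3, 2]) (.leaf 134 7 [10, 11, 5, 4, 3, 5, 6, 7, 5, 10, 11, 5, 4, 3, 5, 6, 7, 5, 10, 11, 5, 4, 3, 5, 6, 7, 5, 10, 11, 5, 4, 3, 5, 6, 7, 5, 10, 11, 5, 4, 3, 5, 6, 7, 5, 10, 11, 5, 4, 3, 5, 6, 7, 5, 10, 11, 5, 4, 3, 5, 6, 7, 5, 10, 11, 5, 4, 3, 5, 6, 7, 5, 10, 11, 5, 4, 3, 5, 6, 7, 5, 10, 11, 5, 4, 3, 5, 6, 7, 5])) (.leaf 133 11 [5, 4, 3, 2, 10, 7, 6, 5, 4, 3, 2, 10, 7, 6, 5, 4, 3, 2, 10, 7, 6, 5, 4, 3, 2, 10, 7, 6, 5, 4, 3, 2, 10, 7, 6, 5, 4, 3, 2, 10, 7, 6, 5, 4, 3, 2, 10, 7, 6, 5, 4, 3, 2, 1, 10, 7, 6, 5, 4, 3,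 2, 10, 7, 6])) (.node 127 (.leaf 133 7 [2, 10, 7, 6, 5, 4, 3, 2, 10, 7, 6, 5, 4, 3, 2, 10, 7, 6, 5, 4, 3, 2, 10, 7, 6, 5, 4, 3, 2, 10, 7, 6, 5, 4, 3, 2, 10, 7, 6, 5, 4, 3, 2, 10, 7, 6, 5, 4, 3, 2, 10, 7, 6, 5, 4, 3, 2, 1, 10, 7, 6, 5, 4, 3]) (.leaf 133 35 [2, 10, 7, 6, 5, 4, 3, 2, 10, 7, 6, 5, 4, 3, 2, 10, 7, 6, 5, 4, 3, 2, 10, 7, 6, 5, 4, 3, 2, 1, 10, 7, 6, 5, 4, 3, 2, 10, 7, 6, 5, 4, 3, 2, 10, 7, 6, 5, 4, 3, 2, 10, 7, 6, 5, 4, 3, 2, 10, 7, 6, 5, 4, 3]))) (.node 131 (.node 130 (.node 129 (.leaf 133 60 [5, 4, 3, 2, 1, 10, 7, 6, 5, 4, 3, 2, 10, 7, 6, 5, 4, 3, 2, 10, 7, 6, 5, 4, 3, 2, 10, 7, 6, 5, 4, 3, 2, 10, 7, 6, 5, 4, 3, 2, 10, 7, 6, 5, 4, 3, 2, 10, 7, 6, 5, 4, 3, 2, 10, 7, 6, 5, 4, 3, 2, 10, 7, 6]) (.leaf 133 15 [10, 7, 6, 5, 4, 3, 2, 10,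 7, 6, 5, 4, 3, 2, 10, 7, 6, 5, 4, 3, 2, 10, 7, 6, 5, 4, 3, 2, 10, 7, 6, 5, 4, 3, 2, 10, 7, 6, 5, 4, 3, 2, 10, 7, 6, 5, 4, 3, 2, 1, 10, 7, 6, 5, 4, 3, 2, 10, 7, 6, 5, 4, 3, 2])) (.leaf 133 63 [2, 1, 10, 7, 6, 5, 4, 3, 2, 10, 7, 6, 5, 4, 3, 2, 10, 7, 6, 5, 4, 3, 2, 10, 7, 6, 5, 4, 3, 2, 10, 7, 6, 5, 4, 3, 2, 10, 7, 6, 5, 4, 3, 2, 10, 7, 6, 5, 4, 3, 2, 10, 7, 6, 5, 4, 3, 2, 10, 7, 6, 5, 4, 3])) (.node 133 (.node 132 (.leaf 133 25 [5, 4, 3, 2, 10, 7, 6, 5, 4, 3, 2, 10, 7, 6, 5, 4, 3, 2, 10, 7, 6, 5, 4, 3, 2, 10, 7, 6, 5, 4, 3, 2, 10, 7, 6, 5, 4, 3, 2, 1, 10, 7, 6, 5, 4, 3, 2, 10, 7, 6, 5, 4, 3, 2, 10, 7, 6, 5, 4, 3, 2, 10, 7, 6]) (.leaf 133 21 [2, 10, 7, 6, 5, 4, 3, 2, 10, 7, 6, 5, 4, 3, 2, 10, 7, 6, 5, 4, 3, 2, 10, 7, 6, 5, 4, 3, 2, 10, 7, 6, 5,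 4, 3, 2, 10, 7, 6, 5, 4, 3, 2, 1, 10, 7, 6, 5, 4, 3, 2, 10, 7, 6, 5, 4, 3, 2, 10, 7, 6, 5, 4, 3])) (.leaf 134 1 [4, 3, 5, 6, 7, 5, 10, 11, 5, 4, 3, 5, 6, 7, 5, 10, 11, 5, 4, 3, 5, 6, 7, 5, 10, 11, 5, 4, 3, 5, 6, 7, 5, 10, 11, 5, 4, 3, 5, 6, 7, 5, 10, 11, 5, 4, 3, 5, 6, 7, 5, 10, 11, 5, 4, 3, 5, 6, 7, 5, 10, 11, 5, 4, 3, 5, 6, 7, 5, 10, 11, 5, 4, 3, 5, 6, 7, 5, 10, 11, 5, 4, 3, 5, 6, 7, 5, 10, 11, 5])))))))))))))))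


end Cfsg.Agent.Lib.Helper11.Fi24e0
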